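import Mathlib
import Cfsg.Prelude.Def_Exceptional
import Cfsg.Prelude.Def_Sporadic
import Cfsg.Prelude.Def_Spor_Th

/-!
Simplicity of the presented Thompson group from its order, the simple subgroup generated by
a, b, c, d, e, s, the trivial centre of the subgroup generated by a, ..., t and bounds on the
eleven orbits of that subgroup on its cosets.
-/

set_option autoImplicit false
set_option maxRecDepth 100000

namespace H96.ThSimple

open Cfsg.Spor

/-- the relators -/
abbrev tRels : Set (FreeGroup Th.Gen) := coxRelators Th.edges ∪ {r | r ∈ Th.extra}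

/-- the presented group -/
abbrev GT : Type := PresentedGroup tRels

/-- a generator in the presented group -/
abbrev gen (g : Th.Gen) : GT := PresentedGroup.of g

/-- the subgroup generated by a, b, c, d, e, s, t -/
def nTh : Subgroup GT :=
  (Subgroup.closure ({Th.a, Th.b, Th.c, Th.d, Th.e, Th.s, Th.t} : Set (FreeGroup Th.Gen))).map
    (PresentedGroup.mk tRels)

/-- the subgroup generated by a, b, c, d, e, s -/
def lTh : Subgroup GT :=
  Subgroup.closure {gen .a, gen .b, gen .c, gen .d, gen .e, gen .s}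

theorem nTh_eq : nTh = Subgroup.closure
    {gen .a, gen .b, gen .c, gen .d, gen .e, gen .s, gen .t} := by
  rw [nTh, MonoidHom.map_closure]
  simp only [Set.image_insert_eq, Set.image_singleton]
  rfl

theorem lTh_le : lTh ≤ nTh := by
  rw [nTh_eq]; exact Subgroup.closure_mono (by simp [Set.insert_subset_iff])

theorem rel {r : FreeGroup Th.Gen} (h : r ∈ Th.extra) : PresentedGroup.mk tRels r = 1 :=
  PresentedGroup.one_of_mem (Or.inr h)

theorem mk_of (g : Th.Gen) : PresentedGroup.mk tRels (FreeGroup.of g) = gen g := rfl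

theorem u_sq : gen .u ^ 2 * (gen .a * gen .c)⁻¹ = 1 := by
  have h := rel (r := (Th.u ^ 2) * ((Th.a * Th.c)⁻¹)) (by simp [Th.extra])
  simpa only [map_mul, map_inv, map_pow, mk_of] using h

theorem t_cube : gen .t ^ 3 = 1 := by
  have h := rel (r := Th.t ^ 3) (by simp [Th.extra])
  simpa only [map_pow, mk_of] using h

theorem t_conj_u : (gen .u)⁻¹ * gen .t * gen .u = (gen .t)⁻¹ := by
  have h := rel (r := (Th.u⁻¹ * Th.t * Th.u) * ((Th.t⁻¹)⁻¹)) (by simp [Th.extra])
  simp only [map_mul, map_inv, mk_of] at h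
  exact mul_inv_eq_one.mp h

theorem us_cube : (gen .a * gen .c) * ((gen .u * gen .s) ^ 3)⁻¹ = 1 := by
  have h := rel (r := (Th.a * Th.c) * (((Th.u * Th.s) ^ 3)⁻¹)) (by simp [Th.extra])
  simpa only [map_mul, map_inv, map_pow, mk_of] using h

theorem t_conj_s : (gen .t)⁻¹ * gen .s * gen .t = gen .s ^ 2 := by
  have h := rel (r := (Th.t⁻¹ * Th.s * Th.t) * ((Th.s ^ 2)⁻¹)) (by simp [Th.extra])
  simp only [map_mul, map_inv, map_pow, mk_of] at h
  exact mul_inv_eq_one.mp h

theorem t_comm {g : Th.Gen} (hg : g = .a ∨ g = .b ∨ g = .c ∨ g = .d ∨ g = .e) :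
    gen .t * gen g = gen g * gen .t := by
  have h : (gen .t)⁻¹ * (gen g)⁻¹ * gen .t * gen g = 1 := by
    rcases hg with rfl | rfl | rfl | rfl | rfl
    · simpa only [map_mul, map_inv, mk_of] using
        rel (r := Th.t⁻¹ * Th.a⁻¹ * Th.t * Th.a) (by simp [Th.extra])
    · simpa only [map_mul, map_inv, mk_of] using
        rel (r := Th.t⁻¹ * Th.b⁻¹ * Th.t * Th.b) (by simp [Th.extra])
    · simpa only [map_mul, map_inv, mk_of] using
        rel (r := Th.t⁻¹ * Th.c⁻¹ * Th.t * Th.c) (by simp [Th.extra])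
    · simpa only [map_mul, map_inv, mk_of] using
        rel (r := Th.t⁻¹ * Th.d⁻¹ * Th.t * Th.d) (by simp [Th.extra])
    · simpa only [map_mul, map_inv, mk_of] using
        rel (r := Th.t⁻¹ * Th.e⁻¹ * Th.t * Th.e) (by simp [Th.extra])
  calc gen .t * gen g = gen g * gen .t * ((gen .t)⁻¹ * (gen g)⁻¹ * gen .t * gen g) := by group
    _ = gen g * gen .t := by rw [h, mul_one]

theorem normal_eq_top (K : Subgroup GT) [K.Normal] (hL : lTh ≤ K) : K = ⊤ := by
  have hmem : ∀ g ∈ ({.a, .b, .c, .d, .e, .s} : Set Th.Gen), gen g ∈ K := by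
    intro g hg
    apply hL
    apply Subgroup.subset_closure
    rcases hg with rfl | rfl | rfl | rfl | rfl | rfl <;> simp
  let π := QuotientGroup.mk' K
  have hπ : ∀ g ∈ ({.a, .b, .c, .d, .e, .s} : Set Th.Gen), π (gen g) = 1 := fun g hg =>
    (QuotientGroup.eq_one_iff _).mpr (hmem g hg)
  have h2 : π (gen .u) ^ 2 = 1 := by
    have h := congrArg π u_sq
    simpa [hπ] using h
  have h3 : π (gen .u) ^ 3 = 1 := by
    have h := congrArg π us_cube
    simpa [hπ] using h
  have hu : π (gen .u) = 1 := by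
    rwa [pow_succ, h2, one_mul] at h3
  have ht : π (gen .t) = 1 := by
    have h := congrArg π t_conj_u
    simp only [map_mul, map_inv, hu, inv_one, one_mul, mul_one] at h
    have h3' : π (gen .t) ^ 3 = 1 := by rw [← map_pow, t_cube, map_one]
    rw [pow_succ, pow_two, eq_inv_iff_mul_eq_one.mp h, one_mul] at h3'
    exact h3'
  rw [eq_top_iff, ← PresentedGroup.closure_range_of, Subgroup.closure_le]
  rintro _ ⟨g, rfl⟩
  cases g
  iterate 6 exact hmem _ (by simp)
  · exact (QuotientGroup.eq_one_iff _).mp ht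
  · exact (QuotientGroup.eq_one_iff _).mp hu

/-- bounds on the sizes of the eleven orbits -/
def dsize : Fin 11 → ℕ :=
  ![1, 17199, 45864, 179712, 1304576, 2201472, 5031936, 8128512, 8805888, 11741184, 105670656]

theorem sums_ok : ∀ S : Finset (Fin 11), (∑ i ∈ S, dsize i) ∣ 143127000 →
    (∑ i ∈ S, dsize i) = 1 ∨ (∑ i ∈ S, dsize i) = 143127000 := by decide +kernel

theorem dsize_sum : ∑ i, dsize i = 143127000 := by decide +kernel

section General

variable {G : Type*} [Group G]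

theorem card_mul_of_le {N H : Subgroup G} (h : N ≤ H) :
    Nat.card N * Nat.card ((QuotientGroup.mk : G → G ⧸ N) '' H) = Nat.card H := by
  rw [← Nat.card_prod, ← Nat.card_congr (QuotientGroup.preimageMkEquivSubgroupProdSet N _)]
  apply Nat.card_congr
  refine Equiv.setCongr ?_
  ext g
  constructor
  · rintro ⟨a, ha, he⟩
    have := mul_mem ha (h (QuotientGroup.eq.mp he))
    simpa using this
  · exact fun hg => ⟨g, hg, rfl⟩

theorem card_union {X ι : Type*} [Fintype ι] [Finite X] (O : ι → Set X) (d : ι → ℕ)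
    (hc : ∀ x, ∃ i, x ∈ O i) (hb : ∀ i, Nat.card (O i) ≤ d i) (ht : ∑ i, d i = Nat.card X)
    (A : Set X) (S : Finset ι) (hS : ∀ i ∈ S, O i ⊆ A) (hA : ∀ x ∈ A, ∃ i ∈ S, x ∈ O i) :
    Nat.card A = ∑ i ∈ S, d i := by
  classical
  let f : (Σ i, O i) → X := fun p => p.2.1
  have hf : Function.Surjective f := fun x => by
    obtain ⟨i, hi⟩ := hc x; exact ⟨⟨i, x, hi⟩, rfl⟩
  have h1 := Nat.card_le_card_of_surjective f hf
  have hle : ∑ i, Nat.card (O i) ≤ ∑ i, d i := Finset.sum_le_sum fun i _ => hb i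
  have he : Nat.card (Σ i, O i) = ∑ i, Nat.card (O i) := Nat.card_sigma
  have hsum : ∑ i, Nat.card (O i) = ∑ i, d i := by omega
  have heq : ∀ i, Nat.card (O i) = d i := by
    by_contra hne
    push Not at hne
    obtain ⟨j, hj⟩ := hne
    exact absurd hsum (Finset.sum_lt_sum (fun i _ => hb i)
      ⟨j, Finset.mem_univ _, lt_of_le_of_ne (hb j) hj⟩).ne
  have hbij : Function.Bijective f :=
    (Nat.bijective_iff_surjective_and_card f).mpr ⟨hf, by omega⟩
  let g : (Σ i : S, O i.1) → A := fun p => ⟨p.2.1, hS _ p.1.2 p.2.2⟩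
  have hg : Function.Bijective g := by
    refine ⟨fun p q h => ?_, fun x => ?_⟩
    · have e : (⟨p.1.1, p.2⟩ : Σ i, O i) = ⟨q.1.1, q.2⟩ := hbij.1 (congrArg Subtype.val h)
      obtain ⟨⟨i, hi⟩, v⟩ := p
      obtain ⟨⟨j, hj⟩, w⟩ := q
      simp only [Sigma.mk.injEq] at e
      obtain ⟨rfl, e⟩ := e
      rw [eq_of_heq e]
    · obtain ⟨i, hi, hx⟩ := hA x.1 x.2
      exact ⟨⟨⟨i, hi⟩, x.1, hx⟩, rfl⟩
  rw [← Nat.card_congr (Equiv.ofBijective g hg), Nat.card_sigma]
  simp only [heq]
  exact Finset.sum_coe_sort S d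

theorem comm_of_card_prime {Q : Type*} [Group Q] {p : ℕ} [Fact p.Prime] (h : Nat.card Q = p)
    (a b : Q) : a * b = b * a := by
  haveI : IsCyclic Q := isCyclic_of_prime_card h
  obtain ⟨g, hg⟩ := IsCyclic.exists_generator (α := Q)
  obtain ⟨i, rfl⟩ := Subgroup.mem_zpowers_iff.mp (hg a)
  obtain ⟨j, rfl⟩ := Subgroup.mem_zpowers_iff.mp (hg b)
  rw [← zpow_add, ← zpow_add, add_comm]

end General

section

variable (hcard : Nat.card GT = 90745943887872000) (hN : Nat.card nTh = 634023936)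
  (hLc : Nat.card lTh = 211341312) (hLs : IsSimpleGroup lTh)
  (hZ : ∀ k ∈ nTh, (∀ n ∈ nTh, k * n = n * k) → k = 1)

include hcard

theorem finite_GT : Finite GT := Nat.finite_of_card_ne_zero (by rw [hcard]; norm_num)

theorem nTh_le_normalizer : nTh ≤ Subgroup.normalizer (lTh : Set GT) := by
  have := finite_GT hcard
  have := Fintype.ofFinite GT
  classical
  rw [nTh_eq, Subgroup.closure_le]
  have hin : ∀ g ∈ ({gen .a, gen .b, gen .c, gen .d, gen .e, gen .s} : Set GT),
      g ∈ Subgroup.normalizer (lTh : Set GT) :=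
    fun g hg => Subgroup.le_normalizer (Subgroup.subset_closure hg)
  rintro g (rfl | rfl | rfl | rfl | rfl | rfl | rfl)
  iterate 6 exact hin _ (by simp)
  refine inv_mem_iff.mp (Subgroup.mem_normalizer_fintype (S := (lTh : Set GT)) fun k hk => ?_)
  have hle : lTh ≤ lTh.comap (MulAut.conj (gen .t)⁻¹).toMonoidHom := by
    rw [lTh, Subgroup.closure_le]
    rintro g hg
    show (gen .t)⁻¹ * g * ((gen .t)⁻¹)⁻¹ ∈ Subgroup.closure _
    rw [inv_inv]
    rcases hg with rfl | rfl | rfl | rfl | rfl | rfl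
    iterate 5
      rw [mul_assoc, ← t_comm (by simp), ← mul_assoc, inv_mul_cancel, one_mul]
      exact Subgroup.subset_closure (by simp)
    rw [t_conj_s]
    exact pow_mem (Subgroup.subset_closure (by simp)) 2
  exact hle hk

include hN hLc

theorem card_quot : Nat.card (nTh ⧸ lTh.subgroupOf nTh) = 3 := by
  have h := Subgroup.card_mul_index (lTh.subgroupOf nTh)
  rw [Nat.card_congr (Subgroup.subgroupOfEquivOfLe lTh_le).toEquiv, hLc, hN, Subgroup.index] at h
  omega

theorem normal_lTh : (lTh.subgroupOf nTh).Normal :=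
  ⟨fun v hv n => by
    rw [Subgroup.mem_subgroupOf] at hv ⊢
    exact (Subgroup.mem_normalizer_iff.mp (nTh_le_normalizer hcard n.2) _).mp hv⟩

include hZ

theorem inf_nTh (K : Subgroup GT) [K.Normal] (hKL : K ⊓ lTh = ⊥) : K ⊓ nTh = ⊥ := by
  rw [eq_bot_iff]
  rintro r ⟨hrK, hrN⟩
  rw [Subgroup.mem_bot]
  refine hZ r hrN fun n hn => ?_
  have := normal_lTh hcard hN hLc
  haveI : Fact (Nat.Prime 3) := ⟨by norm_num⟩
  have h1 : r * n * r⁻¹ * n⁻¹ ∈ lTh := by
    have e := comm_of_card_prime (card_quot hcard hN hLc)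
      (QuotientGroup.mk' _ (⟨r, hrN⟩ : nTh)) (QuotientGroup.mk' _ (⟨n, hn⟩ : nTh))
    have e2 : QuotientGroup.mk' (lTh.subgroupOf nTh)
        (⟨r, hrN⟩ * ⟨n, hn⟩ * (⟨r, hrN⟩ : nTh)⁻¹ * (⟨n, hn⟩ : nTh)⁻¹) = 1 := by
      rw [map_mul, map_mul, map_mul, e, map_inv, map_inv]; group
    exact Subgroup.mem_subgroupOf.mp ((QuotientGroup.eq_one_iff (N := lTh.subgroupOf nTh) _).mp e2)
  have h2 : r * n * r⁻¹ * n⁻¹ ∈ K := by
    rw [mul_assoc (r * n) r⁻¹, mul_assoc r n, ← mul_assoc n r⁻¹]
    exact mul_mem hrK (‹K.Normal›.conj_mem _ (inv_mem hrK) n)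
  have h3 : r * n * r⁻¹ * n⁻¹ ∈ K ⊓ lTh := ⟨h2, h1⟩
  rw [hKL, Subgroup.mem_bot] at h3
  calc r * n = r * n * r⁻¹ * n⁻¹ * (n * r) := by group
    _ = n * r := by rw [h3, one_mul]

theorem sup_ne_top (K : Subgroup GT) [K.Normal] (hKL : K ⊓ lTh = ⊥) : K ⊔ nTh ≠ ⊤ := by
  intro htop
  have := normal_lTh hcard hN hLc
  haveI : Fact (Nat.Prime 3) := ⟨by norm_num⟩
  let f : nTh →* GT ⧸ K := (QuotientGroup.mk' K).comp nTh.subtype
  have hfi : Function.Injective f := by
    rw [injective_iff_map_eq_one]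
    intro n hn
    have hm : (n : GT) ∈ K ⊓ nTh := ⟨(QuotientGroup.eq_one_iff _).mp hn, n.2⟩
    rw [inf_nTh hcard hN hLc hZ K hKL, Subgroup.mem_bot] at hm
    exact Subtype.ext hm
  have hfs : Function.Surjective f := by
    intro q
    obtain ⟨a, rfl⟩ := QuotientGroup.mk'_surjective K q
    have ha : a ∈ ((K ⊔ nTh : Subgroup GT) : Set GT) := by rw [htop]; trivial
    rw [Subgroup.normal_mul] at ha
    obtain ⟨k, hk, n, hn, rfl⟩ := ha
    exact ⟨⟨n, hn⟩, by simp [f, (QuotientGroup.eq_one_iff k).mpr hk]⟩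
  let e := MulEquiv.ofBijective f ⟨hfi, hfs⟩
  let F : GT →* nTh ⧸ lTh.subgroupOf nTh :=
    (QuotientGroup.mk' _).comp (e.symm.toMonoidHom.comp (QuotientGroup.mk' K))
  have ht : gen .t ∈ nTh := by rw [nTh_eq]; exact Subgroup.subset_closure (by simp)
  have hFt : F (gen .t) = QuotientGroup.mk' _ (⟨gen .t, ht⟩ : nTh) := by
    show QuotientGroup.mk' _ (e.symm (f ⟨gen .t, ht⟩)) = _
    rw [show f ⟨gen .t, ht⟩ = e ⟨gen .t, ht⟩ from rfl, MulEquiv.symm_apply_apply]
  have h := congrArg F t_conj_u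
  rw [map_mul, map_mul, map_inv, map_inv, mul_assoc,
    comm_of_card_prime (card_quot hcard hN hLc) (F (gen .t)) (F (gen .u)), inv_mul_cancel_left] at h
  have h3 : F (gen .t) ^ 3 = 1 := by rw [← map_pow, t_cube, map_one]
  rw [pow_succ, pow_two, eq_inv_iff_mul_eq_one.mp h, one_mul, hFt] at h3
  have htL : gen .t ∈ lTh :=
    Subgroup.mem_subgroupOf.mp ((QuotientGroup.eq_one_iff (N := lTh.subgroupOf nTh) _).mp h3)
  have hle : nTh ≤ lTh := by
    rw [nTh_eq, Subgroup.closure_le]
    rintro g (rfl | rfl | rfl | rfl | rfl | rfl | rfl)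
    iterate 6 exact Subgroup.subset_closure (by simp)
    exact htL
  have heq : lTh = nTh := le_antisymm lTh_le hle
  rw [heq, hN] at hLc
  norm_num at hLc

omit hLc hZ

variable (q : Fin 11 → GT ⧸ nTh) (hcov : ∀ c, ∃ i, c ∈ MulAction.orbit nTh (q i))
  (hbnd : ∀ i, Nat.card (MulAction.orbit nTh (q i)) ≤ dsize i)

include hcov hbnd

theorem eq_or_eq_top (H : Subgroup GT) (hH : nTh ≤ H) : H = nTh ∨ H = ⊤ := by
  classical
  have := finite_GT hcard
  set A : Set (GT ⧸ nTh) := (QuotientGroup.mk : GT → GT ⧸ nTh) '' H with hA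
  have hidx : Nat.card (GT ⧸ nTh) = 143127000 := by
    have h := Subgroup.card_mul_index nTh
    rw [hcard, hN, Subgroup.index,
      show (90745943887872000 : ℕ) = 634023936 * 143127000 by norm_num] at h
    exact Nat.eq_of_mul_eq_mul_left (by norm_num) h
  have hinv : ∀ (n : nTh) (c : GT ⧸ nTh), c ∈ A → n • c ∈ A := by
    rintro n _ ⟨a, ha, rfl⟩
    exact ⟨(n : GT) * a, mul_mem (hH n.2) ha, rfl⟩
  let S : Finset (Fin 11) := Finset.univ.filter fun i => q i ∈ A
  have key : Nat.card A = ∑ i ∈ S, dsize i := by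
    refine card_union (fun i => MulAction.orbit nTh (q i)) dsize hcov hbnd
      (dsize_sum.trans hidx.symm) A S ?_ ?_
    · rintro i hi _ ⟨n, rfl⟩
      exact hinv n _ (Finset.mem_filter.mp hi).2
    · intro c hc
      obtain ⟨i, n, hn⟩ := hcov c
      refine ⟨i, Finset.mem_filter.mpr ⟨Finset.mem_univ _, ?_⟩, n, hn⟩
      have := hinv n⁻¹ c hc
      rwa [← hn, inv_smul_smul] at this
  have hm := card_mul_of_le hH
  rw [← hA, key, hN] at hm
  have hd : (∑ i ∈ S, dsize i) ∣ 143127000 := by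
    have h := Subgroup.card_subgroup_dvd_card H
    rw [← hm, hcard, show (90745943887872000 : ℕ) = 634023936 * 143127000 by norm_num] at h
    exact (Nat.mul_dvd_mul_iff_left (by norm_num)).mp h
  rcases sums_ok S hd with h1 | h1
  · left
    refine (Subgroup.eq_of_le_of_card_ge hH ?_).symm
    rw [← hm, h1, hN, mul_one]
  · right
    refine Subgroup.eq_top_of_card_eq H ?_
    rw [← hm, h1, hcard]

include hLc hLs hZ

/-- the presented Thompson group is simple -/
theorem isSimple : IsSimpleGroup GT := by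
  have := finite_GT hcard
  have : Nontrivial GT := Finite.one_lt_card_iff_nontrivial.mp (by rw [hcard]; norm_num)
  refine ⟨fun K hK => ?_⟩
  have := hK
  by_cases hM : K ⊓ lTh = ⊥
  · left
    have hsup : K ⊔ nTh = nTh := (eq_or_eq_top hcard hN q hcov hbnd _ le_sup_right).resolve_right
      (sup_ne_top hcard hN hLc hZ K hM)
    have h := inf_nTh hcard hN hLc hZ K hM
    rwa [inf_eq_left.mpr (sup_eq_right.mp hsup)] at h
  · right
    have hn : (K.subgroupOf lTh).Normal := hK.subgroupOf _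
    rcases hLs.eq_bot_or_eq_top_of_normal _ hn with h | h
    · rw [Subgroup.subgroupOf_eq_bot, disjoint_iff] at h; exact absurd h hM
    · rw [Subgroup.subgroupOf_eq_top] at h
      exact normal_eq_top K h

/-- the presented group is simple of the expected order -/
theorem isTh : Cfsg.IsTh Cfsg.Spor.Th := ⟨isSimple hcard hN hLc hLs hZ q hcov hbnd, hcard⟩

omit hLs hZ hcov hbnd hLc q in
/-- the index of the subgroup generated by a, ..., t -/
theorem index_nTh : nTh.index = 143127000 := by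
  have h := Subgroup.card_mul_index nTh
  rw [hcard, hN, show (90745943887872000 : ℕ) = 634023936 * 143127000 by norm_num] at h
  exact Nat.eq_of_mul_eq_mul_left (by norm_num) h

end

end H96.ThSimple
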