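import Mathlib
import Cfsg.Agent.H96.ThSimple.Main

/-!
The presented Thompson group is simple of the expected order, has the subgroup generated by
a, ..., t of index 143127000 and is realised by matrices, as soon as eleven base cosets with
stabilisers of the known indices reach all cosets and a faithful model of that subgroup is given.
-/

set_option autoImplicit false
set_option maxRecDepth 100000

namespace H96.ThSimple

/-- what a double coset certificate and a model of the subgroup generated by a, ..., t provide -/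
structure Data (P : Type*) [Group P] where
  iota : P →* GT
  range_eq : iota.range = nTh
  card_P : Nat.card P = 634023936
  inj : Function.Injective iota
  LP : Subgroup P
  map_LP : LP.map iota = lTh
  card_LP : Nat.card LP = 211341312
  simple_LP : IsSimpleGroup LP
  center_P : ∀ k : P, (∀ n : P, k * n = n * k) → k = 1
  lower : Finite GT → 90745943887872000 ≤ Nat.card GT
  q : Fin 11 → GT ⧸ iota.range
  St : Fin 11 → Subgroup P
  fix : ∀ i, ∀ g ∈ St i, iota g • q i = q i
  index_St : ∀ i, (St i).index ≤ dsize i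
  cover : ∀ c, ∃ i, ∃ n : P, iota n • q i = c

namespace Data

variable {P : Type*} [Group P] (D : Data P)

include D in
theorem card_GT : Nat.card GT = 90745943887872000 := by
  have : Finite P := Nat.finite_of_card_ne_zero (by rw [D.card_P]; norm_num)
  let g : (Σ i : Fin 11, P ⧸ D.St i) → GT ⧸ D.iota.range := fun x => D.iota x.2.out • D.q x.1
  have hg : Function.Surjective g := by
    intro c
    obtain ⟨i, n, rfl⟩ := D.cover c
    obtain ⟨u, hu⟩ := QuotientGroup.mk_out_eq_mul (D.St i) n
    refine ⟨⟨i, QuotientGroup.mk n⟩, ?_⟩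
    show D.iota (QuotientGroup.mk n : P ⧸ D.St i).out • D.q i = D.iota n • D.q i
    rw [hu, map_mul, mul_smul, D.fix i u u.2]
  have : Finite (GT ⧸ D.iota.range) := Finite.of_surjective g hg
  have : Finite D.iota.range := Finite.of_surjective _ D.iota.rangeRestrict_surjective
  have hfin : Finite GT := Finite.of_subgroup_quotient D.iota.range
  refine le_antisymm ?_ (D.lower hfin)
  rw [← Subgroup.card_mul_index D.iota.range]
  have h1 : Nat.card D.iota.range ≤ 634023936 :=
    (Nat.card_le_card_of_surjective _ D.iota.rangeRestrict_surjective).trans D.card_P.le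
  have h2 : D.iota.range.index ≤ 143127000 := by
    rw [← dsize_sum]
    refine (Nat.card_le_card_of_surjective g hg).trans ?_
    rw [Nat.card_sigma]
    exact Finset.sum_le_sum fun i _ => D.index_St i
  exact (Nat.mul_le_mul h1 h2).trans (by norm_num)

include D in
theorem card_nTh : Nat.card nTh = 634023936 := by
  rw [← D.range_eq, ← Nat.card_congr (MonoidHom.ofInjective D.inj).toEquiv, D.card_P]

include D in
theorem card_lTh : Nat.card lTh = 211341312 := by
  rw [← D.map_LP, Subgroup.card_map_of_injective D.inj, D.card_LP]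

include D in
theorem simple_lTh : IsSimpleGroup lTh := by
  have := D.simple_LP
  rw [← D.map_LP]
  exact (D.LP.equivMapOfInjective D.iota D.inj).symm.isSimpleGroup

include D in
theorem center_nTh : ∀ k ∈ nTh, (∀ n ∈ nTh, k * n = n * k) → k = 1 := by
  intro k hk h
  rw [← D.range_eq] at hk
  obtain ⟨p, rfl⟩ := hk
  have hp : p = 1 := D.center_P p fun n => D.inj (by
    rw [map_mul, map_mul]; exact h _ (D.range_eq ▸ ⟨n, rfl⟩))
  rw [hp, map_one]

include D in
theorem orbits : ∃ q : Fin 11 → GT ⧸ nTh, (∀ c, ∃ i, c ∈ MulAction.orbit nTh (q i)) ∧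
    ∀ i, Nat.card (MulAction.orbit nTh (q i)) ≤ dsize i := by
  rw [← D.range_eq]
  have : Finite P := Nat.finite_of_card_ne_zero (by rw [D.card_P]; norm_num)
  refine ⟨D.q, fun c => ?_, fun i => ?_⟩
  · obtain ⟨i, n, rfl⟩ := D.cover c
    exact ⟨i, ⟨D.iota n, n, rfl⟩, rfl⟩
  · refine le_trans ?_ (D.index_St i)
    let f : P ⧸ D.St i → MulAction.orbit D.iota.range (D.q i) := fun x =>
      ⟨D.iota x.out • D.q i, ⟨D.iota x.out, _, rfl⟩, rfl⟩
    refine Nat.card_le_card_of_surjective f fun y => ?_
    obtain ⟨y, ⟨_, n, rfl⟩, rfl⟩ := y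
    refine ⟨QuotientGroup.mk n, Subtype.ext ?_⟩
    obtain ⟨u, hu⟩ := QuotientGroup.mk_out_eq_mul (D.St i) n
    show D.iota (QuotientGroup.mk n : P ⧸ D.St i).out • D.q i = D.iota n • D.q i
    rw [hu, map_mul, mul_smul, D.fix i u u.2]

include D in
/-- the presented Thompson group is simple of the expected order -/
theorem isTh_presented : Cfsg.IsTh Cfsg.Spor.Th := by
  obtain ⟨q, h1, h2⟩ := D.orbits
  exact isTh D.card_GT D.card_nTh D.card_lTh D.simple_lTh D.center_nTh q h1 h2

include D in
/-- the index of the subgroup generated by a, ..., t -/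
theorem index_eq : nTh.index = 143127000 := index_nTh D.card_GT D.card_nTh

include D in
theorem is3D4_lTh : Cfsg.Is3D4 lTh :=
  ⟨D.simple_lTh, 2, Nat.prime_two.isPrimePow, by rw [D.card_lTh]; norm_num⟩

include D in
/-- the matrix realisation -/
theorem realization {M : Type} [Group M] (ρ : GT →* M)
    (hρ : 90745943887872000 ∣ Nat.card ρ.range) :
    ∃ H : Subgroup M, Cfsg.IsTh H ∧
      ∃ K : Subgroup H, K.index = 143127000 ∧ ∃ L : Subgroup H, L ≤ K ∧ Cfsg.Is3D4 L := by
  have hcard := D.card_GT
  have : Finite GT := finite_GT hcard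
  have h1 := Subgroup.card_range_dvd ρ
  rw [hcard] at h1
  have h2 : Nat.card ρ.range = 90745943887872000 := Nat.dvd_antisymm h1 hρ
  have hb : Function.Bijective ρ.rangeRestrict :=
    (Nat.bijective_iff_surjective_and_card _).mpr
      ⟨ρ.rangeRestrict_surjective, hcard.trans h2.symm⟩
  let e : GT ≃* ρ.range := MulEquiv.ofBijective _ hb
  have hs : IsSimpleGroup GT := D.isTh_presented.1
  refine ⟨ρ.range, ⟨e.symm.isSimpleGroup, h2⟩, nTh.map e.toMonoidHom, ?_,
    lTh.map e.toMonoidHom, Subgroup.map_mono lTh_le, ?_⟩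
  · rw [show e.toMonoidHom = (e : GT →* ρ.range) from rfl, Subgroup.index_map_equiv]
    exact D.index_eq
  · obtain ⟨hL, q, hq, hc⟩ := D.is3D4_lTh
    have e' := e.subgroupMap lTh
    exact ⟨e'.symm.isSimpleGroup, q, hq, (Nat.card_congr e'.toEquiv).symm.trans hc⟩

end Data

end H96.ThSimple
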