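import Mathlib
import Cfsg.Agent.H96.ThSimple.Cover
import Cfsg.Agent.H22.Th.Simple

/-!
The data of the Thompson endgame with the model of the subgroup generated by a, ..., t filled in.
-/

set_option autoImplicit false
set_option maxRecDepth 100000

namespace H96.ThSimple

open H22Th

theorem model_range : H22Th.iota.range = nTh := iota_range.trans nTh_eq.symm

theorem model_map_L : Lsub.map H22Th.iota = lTh := by
  rw [Lsub, MonoidHom.map_closure]
  simp only [Set.image_insert_eq, Set.image_singleton, iota_x]
  rfl

/-- what remains: faithfulness of the model, the lower bound and the cover -/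
noncomputable def dataOfModel (inj : Function.Injective H22Th.iota)
    (lower : Finite GT → 90745943887872000 ≤ Nat.card GT)
    (q : Fin 11 → GT ⧸ H22Th.iota.range) (St : Fin 11 → Subgroup P)
    (fix : ∀ i, ∀ g ∈ St i, H22Th.iota g • q i = q i)
    (index_St : ∀ i, (St i).index ≤ dsize i)
    (cover : ∀ c, ∃ i, ∃ n : P, H22Th.iota n • q i = c) : Data P where
  iota := H22Th.iota
  range_eq := model_range
  card_P := card_P
  inj := inj
  LP := Lsub
  map_LP := model_map_L
  card_LP := card_Lsub
  simple_LP := Lsub_simple
  center_P k hk := by
    have h : k ∈ Subgroup.center P := Subgroup.mem_center_iff.mpr fun n => (hk n).symm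
    rwa [center_eq_bot, Subgroup.mem_bot] at h
  lower := lower
  q := q
  St := St
  fix := fix
  index_St := index_St
  cover := cover

/-- the lower bound from a representation with image of order divisible by the order -/
theorem lower_of_dvd {M : Type*} [Group M] (ρ : GT →* M)
    (h : 90745943887872000 ∣ Nat.card ρ.range) : Finite GT → 90745943887872000 ≤ Nat.card GT :=
  fun _ => Nat.le_of_dvd Nat.card_pos (h.trans (Subgroup.card_range_dvd ρ))

end H96.ThSimple
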