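import Mathlib
import Cfsg.Agent.H96.ThSimple.Glue
import Cfsg.Agent.H22.Th.Pts
import Cfsg.Agent.H93.Th.Twist
import Cfsg.Agent.H93.Th.Rho
import Cfsg.Agent.H91.Th.Upper
import Cfsg.Agent.H22.Th.Lower.All

/-!
The three Thompson statements assembled from the model, the double coset certificate and the 248-dimensional
representation.
-/

set_option autoImplicit false
set_option maxRecDepth 100000

namespace H96.ThSimple

open H93.Th (rho rho_of)

theorem hdvd : 90745943887872000 ∣ Nat.card rho.range := H22Th.Lower.order_dvd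

theorem data_exists : Nonempty (Data H22Th.P) := by
  obtain ⟨q, St, h1, h2, h3⟩ :=
    H91.Th.orbits H22Th.rep17199 H22Th.card_P.le (H93.Th.twist_dcd rho rho_of)
  refine ⟨dataOfModel (H93.Th.iota_inj rho rho_of) (lower_of_dvd rho hdvd) q St h1 (fun i => ?_) h3⟩
  refine (h2 i).trans_eq ?_
  fin_cases i <;> rfl

theorem thompson_isTh : Cfsg.IsTh Cfsg.Spor.Th := by
  obtain ⟨D⟩ := data_exists
  exact D.isTh_presented

theorem thompson_index : nTh.index = 143127000 := by
  obtain ⟨D⟩ := data_exists
  exact D.index_eq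

theorem thompson_realization : ∃ H : Subgroup (GL (Fin 248) (ZMod 3)), Cfsg.IsTh H ∧
    ∃ K : Subgroup H, K.index = 143127000 ∧ ∃ L : Subgroup H, L ≤ K ∧ Cfsg.Is3D4 L := by
  obtain ⟨D⟩ := data_exists
  exact D.realization rho hdvd

end H96.ThSimple
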